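import Cfsg.Agent.Lib.KnownB.TypeM24Local.Local
import Cfsg.Agent.Lib.Spor.Fi24Sym.Transfer

/-!
Four transpositions of a group isomorphic to the presented Fi24 whose centraliser is G₂(3).
-/

set_option autoImplicit false
set_option Elab.async false

namespace CfsgLib.KnownB.TypeM24Local

open CfsgLib.PresCert Cfsg.Spor CfsgLib.Spor.FischerTypes
open CfsgLib.Spor.Fi24 (π gen cosetFacts)

theorem gen_k_mem : gen (.k : Fi24.Gen) ∈ conjugatesOf (gen (.l : Fi24.Gen)) := by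
  let P := cls24 cosetFacts
  exact P.range_tp.le ⟨⟨31673, by norm_num⟩, show P.tp _ = _ from gen_tp cosetFacts .k⟩

theorem not_commute_k_l : ¬ Commute (gen (.k : Fi24.Gen)) (gen (.l : Fi24.Gen)) := by
  let P := cls24 cosetFacts
  intro h
  rw [← show P.tp ⟨31673, by norm_num⟩ = gen (.k : Fi24.Gen) from gen_tp cosetFacts .k] at h
  have h2 := (fix_l_iff cosetFacts _).1 ((comm_tp_l cosetFacts _).1 h.symm)
  simp at h2

theorem exists_square {G : Type*} [Group G] {D : Set G} (e : G ≃* Cfsg.Spor.Fi24)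
    (he : e '' D = conjugatesOf (gen (.l : Fi24.Gen))) :
    ∃ a b c d : G, Square D a b c d ∧
      Nonempty (↥(Subgroup.centralizer ((Subgroup.closure ({a, b, c, d} : Set G) : Subgroup G) : Set G)) ≃*
        ↥(Cfsg.Lie.chevG2.group (ZMod 3))) := by
  have hmem : ∀ y, y ∈ D ↔ e y ∈ conjugatesOf (gen (.l : Fi24.Gen)) := fun y => by
    rw [← he, e.injective.mem_set_image]
  have ha : e.symm (gen (.k : Fi24.Gen)) ∈ D := (hmem _).2 (by rw [e.apply_symm_apply]; exact gen_k_mem)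
  have hd : e.symm (gen (.l : Fi24.Gen)) ∈ D := (hmem _).2 (by rw [e.apply_symm_apply]; exact mem_conjugatesOf_self)
  have hnc : ¬ Commute (e.symm (gen (.k : Fi24.Gen))) (e.symm (gen (.l : Fi24.Gen))) := fun h =>
    not_commute_k_l ((commute_map_iff e.symm.injective).1 h)
  obtain ⟨b₁, c₁, b, c, hm, -, hbc, -, -, -, hG⟩ := CfsgLib.Spor.Fi24Sym.twoKinds_of_iso e he ha hd hnc
  obtain ⟨hb, hab, hdb⟩ := hm b (by simp)
  obtain ⟨hc, hac, hdc⟩ := hm c (by simp)
  refine ⟨_, b, c, _, ⟨ha, hb, hc, hd, hnc, hbc, hab, hac, hdb, hdc⟩, ?_⟩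
  rw [Subgroup.centralizer_closure]
  obtain ⟨φ⟩ := hG
  refine ⟨(MulEquiv.subgroupCongr ?_).trans φ⟩
  congr 1
  ext y
  simp only [Set.mem_insert_iff, Set.mem_singleton_iff]
  tauto

end CfsgLib.KnownB.TypeM24Local
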